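import Cfsg.Agent.S0908
import Cfsg.Agent.S0931
import Cfsg.Agent.S0956
import Cfsg.Agent.S0973
import Cfsg.Agent.H653.CycFinal
import Cfsg.Agent.H653.CycHeight
import Cfsg.Agent.Blocks.ExistsModular
import Cfsg.Agent.H123.CycTI
set_option linter.all false

/-!
# Character degrees of groups with a cyclic trivial intersection Sylow subgroup (S2350)

The defect groups of the `p`-blocks are `1` or Sylow subgroups (Green), and all heights are `0` (cyclic defect groups).
-/

set_option autoImplicit false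
set_option linter.unusedSectionVars false

namespace Cfsg.Agent.H123.BlockRed

open Subgroup Cfsg

universe u

variable {G : Type u} [Group G] [Finite G] {p : ℕ} [hp : Fact p.Prime]

theorem exists_induced {M : Ideal AlgInt} {B : Set (IrrCharacter G)} {L C : Subgroup G} (h : L = C)
    (hb : ∃ b : Set (IrrCharacter L), IsInducedBlock M L b B) : ∃ b : Set (IrrCharacter C), IsInducedBlock M C b B := by
  subst h
  exact hb

/-- heights zero for cyclic defect groups -/
theorem height_eq_zero {M : Ideal AlgInt} (hM : IsPModular p M) {B : Set (IrrCharacter G)} (hB : IsPBlock M B)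
    {D : Subgroup G} (hBD : IsDefectGroup p M B D) (hD : IsCyclic D) {n : ℕ} (hn : 1 ≤ n) (hDn : Nat.card D = p ^ n)
    {χ : IrrCharacter G} (hχ : χ ∈ B) : blockHeight p B (χ : G → ℂ) = 0 := by
  classical
  have := Fintype.ofFinite G
  have : M.IsPrime := hM.2.1.isPrime
  obtain ⟨⟨b, -, hb⟩, -⟩ := S0973.result p M hM B hB D hBD
  have hle : D ≤ centralizer (D : Set G) := by
    intro x hx
    rw [mem_centralizer_iff]
    intro y hy
    exact congrArg Subtype.val (mul_comm' (⟨y, hy⟩ : ↥D) ⟨x, hx⟩)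
  obtain ⟨b', hb'⟩ := exists_induced (sup_eq_right.2 hle) ⟨b, hb⟩
  obtain ⟨z, h⟩ := H653.CycFinal.exists_hyp hM hD hn hDn hBD hb'
  obtain ⟨-, h1, h2⟩ := H653.CycFinal.dvd_and h hDn rfl
  exact (H653.CycHeight.main h hDn rfl h1 h2).1 χ hχ

/-- **The degrees.** -/
theorem main (P : Sylow p G) (hP : IsCyclic ↥(P : Subgroup G))
    (hTI : ∀ g : G, (P : Subgroup G).map (MulAut.conj g).toMonoidHom = (P : Subgroup G) ∨
      (P : Subgroup G).map (MulAut.conj g).toMonoidHom ⊓ (P : Subgroup G) = ⊥) {χ : G → ℂ} (hχ : IsIrrCharacter G χ) :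
    ∃ d : ℕ, χ 1 = d ∧ (Nat.card ↥(P : Subgroup G) ∣ d ∨ Nat.Coprime p d) := by
  obtain ⟨M, hM⟩ := Blocks.ExistsModular.exists_isPModular hp.out
  have : M.IsPrime := hM.2.1.isPrime
  obtain ⟨χ', rfl⟩ : ∃ χ' : IrrCharacter G, (χ' : G → ℂ) = χ := ⟨⟨χ, hχ⟩, rfl⟩
  refine ⟨charDegree (χ' : G → ℂ), Blocks.Basic.irr_one_eq_charDegree χ'.2, ?_⟩
  have hpos : charDegree (χ' : G → ℂ) ≠ 0 := (Blocks.Basic.charDegree_pos χ'.2).ne'
  have hB : IsPBlock M (blockOf M (χ' : G → ℂ)) := Blocks.Basic.isPBlock_blockOf χ'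
  have hχB : χ' ∈ blockOf M (χ' : G → ℂ) := Blocks.Basic.mem_blockOf_self χ'
  obtain ⟨D, hD, hDp⟩ := S0931.exists_defectGroup p M hM _ hB
  obtain ⟨Q, hQ⟩ := hDp.exists_le_sylow
  -- `Q` is cyclic and TI
  obtain ⟨c, rfl⟩ := MulAction.exists_smul_eq G P Q
  have hQc : IsCyclic ↥((c • P : Sylow p G) : Subgroup G) :=
    isCyclic_of_surjective (P.equiv (c • P)).toMonoidHom (P.equiv (c • P)).surjective
  have hcard : Nat.card ↥((c • P : Sylow p G) : Subgroup G) = Nat.card ↥(P : Subgroup G) :=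
    Nat.card_congr (Sylow.equiv (c • P) P).toEquiv
  obtain ⟨x, -, -, hx⟩ := S0956.result p M hM _ hB D hD (c • P) hQ
  have hdich : D = ⊥ ∨ D = ((c • P : Sylow p G) : Subgroup G) := by
    by_cases hD1 : D = ⊥
    · exact Or.inl hD1
    right
    obtain ⟨s, hsD, hs1⟩ : ∃ s ∈ D, s ≠ 1 := by
      by_contra hcon
      push Not at hcon
      exact hD1 ((Subgroup.eq_bot_iff_forall _).2 hcon)
    have hmem : ∀ g y, y ∈ ((g • P : Sylow p G) : Subgroup G) ↔ g⁻¹ * y * g ∈ P := by
      intro g y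
      rw [Sylow.coe_subgroup_smul, Subgroup.mem_pointwise_smul_iff_inv_smul_mem, ← map_inv, MulAut.smul_def,
        MulAut.conj_apply, inv_inv]
      rfl
    -- `s ∈ cPc⁻¹ ∩ x c P c⁻¹ x⁻¹`
    have h1 : s ∈ ((c • P : Sylow p G) : Subgroup G) := hQ hsD
    have h2 : s ∈ ((c • P : Sylow p G) : Subgroup G).map (MulAut.conj x).toMonoidHom := by
      rw [← hx] at hsD
      exact hsD.2
    obtain ⟨s', hs', hss⟩ := h2
    have hss' : x * s' * x⁻¹ = s := hss
    rw [SetLike.mem_coe, hmem] at hs'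
    rw [hmem] at h1
    -- `g = c⁻¹ x c`
    have h3 := hTI (c⁻¹ * x * c)
    have h4 : (P : Subgroup G).map (MulAut.conj (c⁻¹ * x * c)).toMonoidHom ⊓ (P : Subgroup G) ≠ ⊥ := by
      intro h5
      have h6 : c⁻¹ * s * c ∈ (⊥ : Subgroup G) := by
        rw [← h5]
        refine ⟨⟨c⁻¹ * s' * c, hs', ?_⟩, h1⟩
        show c⁻¹ * x * c * (c⁻¹ * s' * c) * (c⁻¹ * x * c)⁻¹ = c⁻¹ * s * c
        rw [← hss']
        group
      rw [mem_bot] at h6
      apply hs1
      have h7 : s = c * (c⁻¹ * s * c) * c⁻¹ := by group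
      rw [h7, h6, mul_one, mul_inv_cancel]
    have h5 := h3.resolve_right h4
    rw [← hx]
    refine inf_eq_left.2 ?_
    intro y hy
    have hy1 : c⁻¹ * y * c ∈ (P : Subgroup G) := (hmem c y).1 hy
    rw [← h5] at hy1
    obtain ⟨w, hw, hwy⟩ := hy1
    have hwy' : c⁻¹ * x * c * w * (c⁻¹ * x * c)⁻¹ = c⁻¹ * y * c := hwy
    refine ⟨c * w * c⁻¹, ?_, ?_⟩
    · rw [SetLike.mem_coe, hmem]
      have h6 : c⁻¹ * (c * w * c⁻¹) * c = w := by group
      rw [h6]
      exact hw
    · show x * (c * w * c⁻¹) * x⁻¹ = y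
      have h6 : y = c * (c⁻¹ * y * c) * c⁻¹ := by group
      rw [h6, ← hwy']
      group
  have hdef := S0908.result p M hM _ hB D hD
  have hPcard : Nat.card ↥(P : Subgroup G) = p ^ (Nat.card G).factorization p := P.card_eq_multiplicity
  have hmin : sInf ((fun ψ : IrrCharacter G => (charDegree (ψ : G → ℂ)).factorization p) ''
      blockOf M (χ' : G → ℂ)) ≤ (charDegree (χ' : G → ℂ)).factorization p := Nat.sInf_le ⟨χ', hχB, rfl⟩
  rcases hdich with h1 | h1
  · -- defect zero
    left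
    rw [h1, Subgroup.card_bot] at hdef
    have h2 : blockDefect p (blockOf M (χ' : G → ℂ)) = 0 := by
      rcases Nat.eq_zero_or_pos (blockDefect p (blockOf M (χ' : G → ℂ))) with h3 | h3
      · exact h3
      · exact absurd hdef (Nat.one_lt_pow h3.ne' hp.out.one_lt).ne
    unfold blockDefect at h2
    rw [hPcard]
    exact (hp.out.pow_dvd_iff_le_factorization hpos).2 (by omega)
  · by_cases hn : (Nat.card G).factorization p = 0
    · left
      rw [hPcard, hn, pow_zero]
      exact one_dvd _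
    right
    have hDn : Nat.card ↥D = p ^ (Nat.card G).factorization p := by rw [h1, hcard, hPcard]
    have hh := height_eq_zero hM hB hD (by rw [h1]; exact hQc) (Nat.one_le_iff_ne_zero.2 hn) hDn hχB
    rw [hDn] at hdef
    have h2 := Nat.pow_right_injective hp.out.two_le hdef
    unfold blockDefect at h2
    unfold blockHeight at hh
    have h3 : (charDegree (χ' : G → ℂ)).factorization p = 0 := by omega
    rw [Nat.Prime.coprime_iff_not_dvd hp.out]
    intro h4
    have h5 := (hp.out.dvd_iff_one_le_factorization hpos).1 h4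
    omega

end Cfsg.Agent.H123.BlockRed
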