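import Cfsg.Agent.H124.SplitNC
import Cfsg.Agent.H546.MElevenB_m3
import Cfsg.Agent.H800.Sp.TitsFive
import Cfsg.Agent.H800.Sp.B
import Cfsg.Agent.H800.Sp.Suz
import Cfsg.Agent.H800.Sp.ON
import Cfsg.Agent.H800.Sp.Mathieu_mg
import Cfsg.Agent.H800.Sp.J2
import Cfsg.Agent.H800.Sp.HS_mg
import Cfsg.Agent.FastGrp
import Cfsg.Agent.Prune
set_option linter.all false

section
prune_inst 0x7f00000000000000000000000000000000000000000000000000000000000000000000000000000000000000000000000000000000000000000000000000000000000000000000000000000000000000003fffffffffffffffffffffffffffbeffbdffffffff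

-- part: H123/CycNil
section
set_option linter.all false
open scoped Cfsg.Agent.FastGrp

/-!
# A central element of order `p` and a cyclic Sylow `p`-subgroup

* `norm_le_cent` : then `N(Q) ≤ C(Q)` (so there is a normal `p`-complement);
* `nc_of_involution` : a numerical criterion for noncyclic Sylow `p`-subgroups.
-/

set_option autoImplicit false
set_option linter.unusedSectionVars false

universe u v

namespace Cfsg.Agent.H123.SpNC

open Subgroup Cfsg.Agent.H800.Sp Cfsg.Agent.H123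

section

variable {p : ℕ} [hp : Fact p.Prime] {C : Type*} [Group C] [Finite C]

theorem mem_of_normalizes (Q : Sylow p C) {n : C} (hn : n ∈ normalizer ((Q : Subgroup C) : Set C)) {s : ℕ}
    (hs : n ^ p ^ s = 1) : n ∈ Q := by
  have h1 : IsPGroup p ↥(zpowers n) := by
    obtain ⟨m, hm, hm'⟩ := (Nat.dvd_prime_pow hp.out).1 (orderOf_dvd_of_pow_eq_one hs)
    exact IsPGroup.of_card (n := m) (by rw [Nat.card_zpowers, hm'])
  have h2 : IsPGroup p ↥(zpowers n ⊔ (Q : Subgroup C)) :=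
    h1.to_sup_of_normal_right' Q.2 (by rwa [zpowers_le])
  have h3 := Q.3 h2 le_sup_right
  have h4 : n ∈ zpowers n ⊔ (Q : Subgroup C) := mem_sup_left (mem_zpowers n)
  rw [h3] at h4
  exact h4

/-- A central element of order `p`, the Sylow `p`-subgroup `Q` cyclic: `N(Q) ≤ C(Q)`. -/
theorem norm_le_cent (Q : Sylow p C) (hQ : IsCyclic ↥(Q : Subgroup C)) {x : C} (hx : orderOf x = p)
    (hxZ : ∀ c : C, c * x = x * c) :
    normalizer ((Q : Subgroup C) : Set C) ≤ centralizer ((Q : Subgroup C) : Set C) := by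
  intro n hn
  have hxp : x ^ p ^ 1 = 1 := by rw [pow_one, ← hx, pow_orderOf_eq_one]
  have hxQ : x ∈ Q := by
    refine mem_of_normalizes Q ?_ hxp
    rw [mem_normalizer_iff]
    intro c
    rw [← hxZ c, mul_inv_cancel_right]
  obtain ⟨⟨g, hg⟩, hgen⟩ := hQ.exists_generator
  obtain ⟨b, hb⟩ := hgen ⟨x, hxQ⟩
  have hb' : g ^ b = x := congrArg Subtype.val hb
  have hng : n * g * n⁻¹ ∈ (Q : Subgroup C) := (mem_normalizer_iff.1 hn g).1 hg
  obtain ⟨a, ha⟩ := hgen ⟨n * g * n⁻¹, hng⟩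
  have ha' : g ^ a = n * g * n⁻¹ := congrArg Subtype.val ha
  -- the order of `g`
  obtain ⟨k, hk⟩ := (IsPGroup.iff_orderOf.1 Q.2) ⟨g, hg⟩
  rw [Subgroup.orderOf_mk] at hk
  have h1 : g ^ (a * b) = g ^ b := by
    rw [zpow_mul, ha', conj_zpow, hb', hxZ n, mul_inv_cancel_right]
  have h2 : (p : ℤ) ∣ a - 1 := by
    by_contra hcon
    have h3 : ((orderOf g : ℕ) : ℤ) ∣ (a - 1) * b := by
      rw [orderOf_dvd_iff_zpow_eq_one, sub_mul, one_mul, zpow_sub, h1, mul_inv_cancel]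
    have h4 : IsCoprime ((orderOf g : ℕ) : ℤ) (a - 1) := by
      rw [hk]
      push_cast
      exact IsCoprime.pow_left ((Prime.coprime_iff_not_dvd (Nat.prime_iff_prime_int.1 hp.out)).2 hcon)
    have h5 := h4.dvd_of_dvd_mul_left h3
    have h6 : x = 1 := by rw [← hb']; exact orderOf_dvd_iff_zpow_eq_one.1 h5
    rw [h6, orderOf_one] at hx
    exact hp.out.one_lt.ne hx
  have h3 : ((orderOf g : ℕ) : ℤ) ∣ a ^ p ^ k - 1 := by
    have h4 := dvd_sub_pow_of_dvd_sub h2 k
    rw [one_pow] at h4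
    rw [hk]
    push_cast
    exact (pow_dvd_pow _ (Nat.le_succ k)).trans h4
  have hpow : ∀ j : ℕ, n ^ j * g * (n ^ j)⁻¹ = g ^ (a ^ j) := by
    intro j
    induction j with
    | zero => simp
    | succ j ih =>
      have e : n ^ (j + 1) * g * (n ^ (j + 1))⁻¹ = n * (n ^ j * g * (n ^ j)⁻¹) * n⁻¹ := by
        rw [pow_succ']; group
      rw [e, ih, ← conj_zpow, ← ha', ← zpow_mul, ← pow_succ']
  have c1 : Commute (n ^ p ^ k) g := by
    have h4 := hpow (p ^ k)
    have h5 : g ^ (a ^ p ^ k) = g := by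
      have h6 : g ^ (a ^ p ^ k - 1) = 1 := orderOf_dvd_iff_zpow_eq_one.1 h3
      rw [zpow_sub, zpow_one, mul_inv_eq_one] at h6
      exact h6
    rw [h5, mul_inv_eq_iff_eq_mul] at h4
    exact h4
  obtain ⟨s, t, ht, hst⟩ := Nat.exists_eq_pow_mul_and_not_dvd (n := orderOf n) (orderOf_pos n).ne' p hp.out.ne_one
  have c2 : Commute (n ^ t) g := by
    have h4 : n ^ t ∈ Q := by
      refine mem_of_normalizes Q (s := s) (pow_mem hn t) ?_
      rw [← pow_mul, mul_comm, ← hst, pow_orderOf_eq_one]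
    have h5 : (⟨n ^ t, h4⟩ : ↥(Q : Subgroup C)) * ⟨g, hg⟩ = ⟨g, hg⟩ * ⟨n ^ t, h4⟩ := mul_comm' _ _
    exact congrArg Subtype.val h5
  have c3 : Commute n g := by
    have h4 : IsCoprime ((p ^ k : ℕ) : ℤ) (t : ℤ) := by
      push_cast
      refine IsCoprime.pow_left ((Prime.coprime_iff_not_dvd (Nat.prime_iff_prime_int.1 hp.out)).2 ?_)
      exact_mod_cast ht
    obtain ⟨u, v, huv⟩ := h4
    have h5 : n = (n ^ p ^ k) ^ u * (n ^ t) ^ v := by
      conv_lhs => rw [← zpow_one n, ← huv]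
      rw [zpow_add, mul_comm u, mul_comm v, zpow_mul, zpow_mul, zpow_natCast, zpow_natCast]
    rw [h5]
    exact (c1.zpow_left u).mul_left (c2.zpow_left v)
  rw [mem_centralizer_iff]
  intro y hy
  obtain ⟨i, hi⟩ := hgen ⟨y, hy⟩
  have hi' : g ^ i = y := congrArg Subtype.val hi
  rw [← hi']
  exact (c3.zpow_right i).eq.symm

/-- an element of the centre of the group `C` of order `p`, `Q` cyclic, `p²` divides the order of `Q`, `z` an
involution: a `2`-subgroup `Z` centralising `z` on which a `p`-element `y` with `p² ∣ o(y)` acts, `y ≠ 1` fixing only the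
elements `w` which commute with it. -/
theorem exists_two_group (hp2 : p ≠ 2) (Q : Sylow p C) (hQ : IsCyclic ↥(Q : Subgroup C)) {x : C} (hx : orderOf x = p)
    (hxZ : ∀ c : C, c * x = x * c) (hd : p ^ 2 ∣ Nat.card C) {z : C} (hz : orderOf z = 2) :
    ∃ (Z : Subgroup C) (y : C), IsPGroup 2 ↥Z ∧ Z ≠ ⊥ ∧ (∀ w ∈ Z, w * z = z * w) ∧ (∀ w, w ∈ Z ↔ y * w * y⁻¹ ∈ Z) ∧
      p ^ 2 ∣ orderOf y ∧ ∃ k, orderOf y = p ^ k := by
  have h2 : Fact (Nat.Prime 2) := ⟨Nat.prime_two⟩
  have hnc := norm_le_cent Q hQ hx hxZ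
  set K := (MonoidHom.transferSylow Q hnc).ker with hK
  have hcompl : IsComplement' K (Q : Subgroup C) := MonoidHom.ker_transferSylow_isComplement' Q hnc
  have hzK : z ∈ K := by
    rw [hK, MonoidHom.mem_ker]
    obtain ⟨m, hm⟩ := (IsPGroup.iff_orderOf.1 Q.2) (MonoidHom.transferSylow Q hnc z)
    have h3 : orderOf (MonoidHom.transferSylow Q hnc z) ∣ 2 := by
      rw [← hz]
      exact orderOf_map_dvd _ z
    rw [hm] at h3
    have h4 : p ^ m = 1 := by
      rcases (Nat.dvd_prime Nat.prime_two).1 h3 with h5 | h5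
      · exact h5
      · exfalso
        rcases Nat.eq_zero_or_pos m with rfl | hm0
        · rw [pow_zero] at h5; omega
        · have h6 : p ∣ 2 := by rw [← h5]; exact dvd_pow_self p hm0.ne'
          exact hp2 ((Nat.prime_dvd_prime_iff_eq hp.out Nat.prime_two).1 h6)
    rw [h4] at hm
    exact orderOf_eq_one_iff.1 hm
  -- a Sylow `2`-subgroup of `K` containing `z`
  obtain ⟨T, hT⟩ := (IsPGroup.of_card (p := 2) (n := 1) (G := ↥(zpowers (⟨z, hzK⟩ : ↥K)))
    (by rw [Nat.card_zpowers, Subgroup.orderOf_mk, hz, pow_one])).exists_le_sylow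
  have hzT : (⟨z, hzK⟩ : ↥K) ∈ T := hT (mem_zpowers _)
  set N := normalizer (((T : Subgroup K).map K.subtype : Subgroup C) : Set C) with hN
  have hFr : N ⊔ K = ⊤ := T.normalizer_sup_eq_top
  -- `|Q|` divides `|N|`
  have hcop : ¬ p ∣ Nat.card ↥K := MonoidHom.not_dvd_card_ker_transferSylow Q hnc
  have hidx : ¬ p ∣ N.index := by
    rintro ⟨c, hc⟩
    apply hcop
    have h3 : Nat.card ↥(Q : Subgroup C) ∣ Nat.card ↥N := by
      have h4 : K.relIndex N = K.index := by
        rw [← Subgroup.relIndex_sup_right N K, hFr, Subgroup.relIndex_top_right]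
      rw [← hcompl.symm.index_eq_card, ← h4]
      exact Subgroup.relIndex_dvd_card K N
    obtain ⟨d, hd'⟩ := h3
    have h5 := Subgroup.card_mul_index N
    have h6 := hcompl.card_mul_card
    rw [hd', hc, ← h6, mul_comm (Nat.card ↥K), mul_assoc] at h5
    have h7 := Nat.eq_of_mul_eq_mul_left Nat.card_pos h5
    exact ⟨d * c, by rw [← h7]; ring⟩
  obtain ⟨Q', hQ'⟩ : ∃ Q' : Sylow p C, (Q' : Subgroup C) ≤ N := by
    obtain ⟨R⟩ : Nonempty (Sylow p ↥N) := inferInstance
    have hR : Nat.card ↥(R : Subgroup N) = Nat.card ↥(Q : Subgroup C) := by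
      rw [R.card_eq_multiplicity, Q.card_eq_multiplicity]
      congr 1
      have h3 := Subgroup.card_mul_index N
      have h4 : (Nat.card C).factorization p = (Nat.card ↥N).factorization p + N.index.factorization p := by
        rw [← h3, Nat.factorization_mul Nat.card_pos.ne' Subgroup.index_ne_zero_of_finite]
        rfl
      rw [h4, Nat.factorization_eq_zero_of_not_dvd hidx, add_zero]
    have h5 : Nat.card ↥((R : Subgroup N).map N.subtype) = Nat.card ↥(Q : Subgroup C) := by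
      rw [← hR]
      exact Nat.card_congr ((R : Subgroup N).equivMapOfInjective _ N.subtype_injective).toEquiv.symm
    refine ⟨Sylow.ofCard ((R : Subgroup N).map N.subtype) (by rw [h5, Q.card_eq_multiplicity]), ?_⟩
    rintro _ ⟨r, -, rfl⟩
    exact r.2
  have e : ↥(Q : Subgroup C) ≃* ↥(Q' : Subgroup C) := Q.equiv Q'
  have hQc : IsCyclic ↥(Q' : Subgroup C) := isCyclic_of_surjective e.toMonoidHom e.surjective
  obtain ⟨⟨y, hy⟩, hgen⟩ := hQc.exists_generator
  have hyo : orderOf y = Nat.card ↥(Q' : Subgroup C) := by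
    rw [← orderOf_eq_card_of_forall_mem_zpowers hgen, Subgroup.orderOf_mk]
  have hyN := hQ' hy
  refine ⟨(center ↥((T : Subgroup K).map K.subtype)).map ((T : Subgroup K).map K.subtype).subtype, y, ?_, ?_, ?_, ?_, ?_,
    ?_⟩
  · exact (IsPGroup.to_subgroup (T.2.map K.subtype) _).map _
  · intro h0
    rw [Subgroup.map_eq_bot_iff_of_injective _ (Subgroup.subtype_injective _)] at h0
    have h3 : IsPGroup 2 ↥((T : Subgroup K).map K.subtype) := T.2.map K.subtype
    have h4 : Nontrivial ↥((T : Subgroup K).map K.subtype) := by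
      refine ⟨⟨⟨z, ⟨⟨z, hzK⟩, hzT, rfl⟩⟩, 1, ?_⟩⟩
      intro h5
      have h6 : z = 1 := congrArg Subtype.val h5
      rw [h6, orderOf_one] at hz
      omega
    have h5 := h3.center_nontrivial
    rw [h0] at h5
    exact not_nontrivial _ h5
  · rintro _ ⟨w, hw, rfl⟩
    have h3 := mem_center_iff.1 hw ⟨z, ⟨⟨z, hzK⟩, hzT, rfl⟩⟩
    exact (congrArg Subtype.val h3).symm
  · have key : ∀ (n : C), n ∈ N → ∀ w, w ∈ (center ↥((T : Subgroup K).map K.subtype)).map
        ((T : Subgroup K).map K.subtype).subtype → n * w * n⁻¹ ∈ (center ↥((T : Subgroup K).map K.subtype)).map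
        ((T : Subgroup K).map K.subtype).subtype := by
      rintro n hn _ ⟨w, hw, rfl⟩
      have h3 : n * w * n⁻¹ ∈ (T : Subgroup K).map K.subtype := (mem_normalizer_iff.1 hn w).1 w.2
      refine ⟨⟨_, h3⟩, ?_, rfl⟩
      rw [SetLike.mem_coe, mem_center_iff]
      rintro ⟨t, ht⟩
      have h4 : n⁻¹ * t * n ∈ (T : Subgroup K).map K.subtype := by
        have := (mem_normalizer_iff.1 (inv_mem hn) t).1 ht
        rwa [inv_inv] at this
      have h5 := congrArg Subtype.val (mem_center_iff.1 hw ⟨_, h4⟩)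
      have h6 : n⁻¹ * t * n * w = w * (n⁻¹ * t * n) := h5
      apply Subtype.ext
      show t * (n * w * n⁻¹) = n * w * n⁻¹ * t
      calc t * (n * w * n⁻¹) = n * (n⁻¹ * t * n * w) * n⁻¹ := by group
        _ = n * (w * (n⁻¹ * t * n)) * n⁻¹ := by rw [h6]
        _ = _ := by group
    intro w
    constructor
    · exact key y hyN w
    · intro hw
      have h3 := key y⁻¹ (inv_mem hyN) _ hw
      have h4 : y⁻¹ * (y * w * y⁻¹) * y⁻¹⁻¹ = w := by group
      rwa [h4] at h3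
  · rw [hyo]
    exact Q'.pow_dvd_card_of_pow_dvd_card hd
  · rw [hyo]
    exact IsPGroup.iff_card.1 Q'.2

/-- **The numerical criterion.** -/
theorem nc_of_involution (hp2 : p ≠ 2) {x z : C} (hx : orderOf x = p) (hz : orderOf z = 2) (hzx : z * x = x * z)
    (hd : p ^ 2 ∣ Nat.card C)
    (hv : ∀ v : C, orderOf v = 2 → ¬ p ^ 2 ∣ Nat.card ↥(centralizer ({v} : Set C))) {N : ℕ}
    (hN : Nat.card ↥(centralizer ({z} : Set C) ⊓ centralizer ({x} : Set C)) ≤ N)
    (h2 : ∀ m, m ≠ 0 → p ∣ 2 ^ m - 1 → N < p * 2 ^ m) : NC p C := by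
  have hf2 : Fact (Nat.Prime 2) := ⟨Nat.prime_two⟩
  intro P hP
  -- a Sylow subgroup containing `x`
  obtain ⟨P', hP'⟩ := (IsPGroup.of_card (p := p) (n := 1) (G := ↥(zpowers x))
    (by rw [Nat.card_zpowers, hx, pow_one])).exists_le_sylow
  have e : ↥(P : Subgroup C) ≃* ↥(P' : Subgroup C) := P.equiv P'
  have hPc : IsCyclic ↥(P' : Subgroup C) := isCyclic_of_surjective e.toMonoidHom e.surjective
  have hxP : x ∈ P' := hP' (mem_zpowers x)
  set D := centralizer ({x} : Set C) with hD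
  have hPD : (P' : Subgroup C) ≤ D := by
    intro y hy
    rw [hD, mem_centralizer_singleton_iff]
    have h3 : (⟨y, hy⟩ : ↥(P' : Subgroup C)) * ⟨x, hxP⟩ = ⟨x, hxP⟩ * ⟨y, hy⟩ := mul_comm' _ _
    exact congrArg Subtype.val h3
  have hxD : x ∈ D := hPD hxP
  have hzD : z ∈ D := mem_centralizer_singleton_iff.2 hzx
  have hdD : p ^ 2 ∣ Nat.card ↥D := (P'.pow_dvd_card_of_pow_dvd_card hd).trans (Subgroup.card_dvd_of_le hPD)
  have hQc : IsCyclic ↥((P'.subtype hPD : Sylow p ↥D) : Subgroup ↥D) := by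
    have h3 : Function.Injective (fun y : ↥((P'.subtype hPD : Sylow p ↥D) : Subgroup ↥D) =>
        (⟨((y : ↥D) : C), y.2⟩ : ↥(P' : Subgroup C))) := by
      intro a b hab
      have h5 : ((a : ↥D) : C) = ((b : ↥D) : C) := congrArg (fun w : ↥(P' : Subgroup C) => (w : C)) hab
      exact Subtype.ext (Subtype.ext h5)
    exact isCyclic_of_injective
      ({ toFun := fun y => ⟨((y : ↥D) : C), y.2⟩, map_one' := rfl, map_mul' := fun _ _ => rfl } :
        ↥((P'.subtype hPD : Sylow p ↥D) : Subgroup ↥D) →* ↥(P' : Subgroup C)) h3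
  obtain ⟨Z, y, hZ2, hZ1, hZz, hyZ, hyp, k, hk⟩ := exists_two_group hp2 (P'.subtype hPD) hQc (x := ⟨x, hxD⟩)
    (by rw [Subgroup.orderOf_mk, hx]) (fun c => Subtype.ext (mem_centralizer_singleton_iff.1 c.2)) hdD
    (z := ⟨z, hzD⟩) (by rw [Subgroup.orderOf_mk, hz])
  -- the action of `⟨y⟩` on `Z`
  have hyZ' : ∀ a ∈ zpowers y, ∀ w ∈ Z, a * w * a⁻¹ ∈ Z := by
    intro a ha w hw
    have h3 : zpowers y ≤ normalizer (Z : Set ↥D) := by
      rw [zpowers_le, mem_normalizer_iff]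
      exact hyZ
    exact (mem_normalizer_iff.1 (h3 ha) w).1 hw
  let act : MulAction ↥(zpowers y) ↥Z :=
    { smul := fun a w => ⟨a * w * (a : ↥D)⁻¹, hyZ' a a.2 w w.2⟩
      one_smul := fun w => Subtype.ext (by
        show ((1 : ↥(zpowers y)) : ↥D) * w * ((1 : ↥(zpowers y)) : ↥D)⁻¹ = w
        simp)
      mul_smul := fun a b w => Subtype.ext (by
        show ((a * b : ↥(zpowers y)) : ↥D) * w * ((a * b : ↥(zpowers y)) : ↥D)⁻¹ =
          a * (b * w * (b : ↥D)⁻¹) * (a : ↥D)⁻¹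
        push_cast
        group) }
  have hyg : IsPGroup p ↥(zpowers y) := IsPGroup.of_card (n := k) (by rw [Nat.card_zpowers, hk])
  have hmod := hyg.card_modEq_card_fixedPoints ↥Z
  have hfix : Nat.card ↥(MulAction.fixedPoints ↥(zpowers y) ↥Z) = 1 := by
    rw [Nat.card_eq_one_iff_unique]
    refine ⟨⟨?_⟩, ⟨⟨1, ?_⟩⟩⟩
    · have key : ∀ w : ↥(MulAction.fixedPoints ↥(zpowers y) ↥Z), (w : ↥Z) = 1 := by
        rintro ⟨w, hw⟩
        by_contra hw1
        have hw1' : (w : ↥Z) ≠ 1 := hw1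
        have h3 : y * (w : ↥D) * y⁻¹ = w := congrArg Subtype.val (hw ⟨y, mem_zpowers y⟩)
        obtain ⟨m, hm⟩ := (IsPGroup.iff_orderOf.1 hZ2) w
        obtain ⟨v, hv2, hvm⟩ : ∃ v : ↥D, orderOf v = 2 ∧ v ∈ zpowers ((w : ↥D)) := by
          have h4 : 2 ∣ orderOf (w : ↥D) := by
            rw [Subgroup.orderOf_coe, hm]
            refine dvd_pow_self 2 ?_
            rintro rfl
            rw [pow_zero] at hm
            exact hw1' (orderOf_eq_one_iff.1 hm)
          refine ⟨(w : ↥D) ^ (orderOf (w : ↥D) / 2), ?_, npow_mem_zpowers _ _⟩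
          exact orderOf_pow_orderOf_div (orderOf_pos _).ne' h4
        have h5 : Commute y v := by
          obtain ⟨i, rfl⟩ := hvm
          have h6 : Commute y (w : ↥D) := mul_inv_eq_iff_eq_mul.1 h3
          exact h6.zpow_right i
        refine hv (v : C) (by rw [Subgroup.orderOf_coe, hv2]) ?_
        have h6 : (y : C) ∈ centralizer ({(v : C)} : Set C) :=
          mem_centralizer_singleton_iff.2 (congrArg Subtype.val h5.eq)
        have h7 : orderOf (y : C) ∣ Nat.card ↥(centralizer ({(v : C)} : Set C)) := by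
          have := orderOf_dvd_natCard (⟨(y : C), h6⟩ : ↥(centralizer ({(v : C)} : Set C)))
          rwa [Subgroup.orderOf_mk] at this
        rw [Subgroup.orderOf_coe] at h7
        exact hyp.trans h7
      intro a b
      exact Subtype.ext ((key a).trans (key b).symm)
    · rintro ⟨a, ha⟩
      exact Subtype.ext (by show a * ((1 : ↥Z) : ↥D) * a⁻¹ = ((1 : ↥Z) : ↥D); simp)
  rw [hfix] at hmod
  obtain ⟨m, hm⟩ := IsPGroup.iff_card.1 hZ2
  have hm0 : m ≠ 0 := by
    rintro rfl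
    rw [pow_zero] at hm
    exact hZ1 (Subgroup.card_eq_one.1 hm)
  have hdiv : p ∣ 2 ^ m - 1 := by
    rw [hm] at hmod
    exact (Nat.modEq_iff_dvd' Nat.one_le_two_pow).1 hmod.symm
  have hlt := h2 m hm0 hdiv
  -- the order of `C(z) ⊓ C(x)`
  have h3 : 2 ^ m ∣ Nat.card ↥(centralizer ({z} : Set C) ⊓ centralizer ({x} : Set C)) := by
    have h4 : Z.map D.subtype ≤ centralizer ({z} : Set C) ⊓ centralizer ({x} : Set C) := by
      rintro _ ⟨w, hw, rfl⟩
      refine ⟨mem_centralizer_singleton_iff.2 (congrArg Subtype.val (hZz w hw)), w.2⟩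
    rw [← hm, Nat.card_congr (Z.equivMapOfInjective D.subtype D.subtype_injective).toEquiv]
    exact Subgroup.card_dvd_of_le h4
  have h4 : p ∣ Nat.card ↥(centralizer ({z} : Set C) ⊓ centralizer ({x} : Set C)) := by
    have h5 : x ∈ centralizer ({z} : Set C) ⊓ centralizer ({x} : Set C) :=
      ⟨mem_centralizer_singleton_iff.2 hzx.symm, hxD⟩
    have h6 := orderOf_dvd_natCard (⟨x, h5⟩ : ↥(centralizer ({z} : Set C) ⊓ centralizer ({x} : Set C)))
    rwa [Subgroup.orderOf_mk, hx] at h6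
  have h5 : p * 2 ^ m ∣ Nat.card ↥(centralizer ({z} : Set C) ⊓ centralizer ({x} : Set C)) := by
    refine Nat.Coprime.mul_dvd_of_dvd_of_dvd ?_ h4 h3
    refine Nat.Coprime.pow_right m ?_
    exact (Nat.coprime_primes hp.out Nat.prime_two).2 hp2
  have h6 := Nat.le_of_dvd Nat.card_pos h5
  exact absurd (h6.trans hN) (not_le.2 hlt)

end

end Cfsg.Agent.H123.SpNC
end

-- part: H123/SpNC
section
set_option linter.all false
open scoped Cfsg.Agent.FastGrp

/-!
# The Sylow `p`-subgroups of the sporadic groups with `p² ∣ |G|` are not cyclic: the abelian pairs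
-/

set_option autoImplicit false
set_option maxRecDepth 100000

universe u v

namespace Cfsg.Agent.H123.SpNC

open Subgroup Cfsg.Agent.H800.Sp Cfsg.Agent.H123

instance instFactThree : Fact (Nat.Prime 3) := ⟨Nat.prime_three⟩

instance instFactFive : Fact (Nat.Prime 5) := ⟨Nat.prime_five⟩

instance instFactSeven : Fact (Nat.Prime 7) := ⟨by norm_num⟩

/-! ### Mathieu groups -/

theorem m11_3 {G : Type*} [Group G] (h : Cfsg.Spor.IsoM11 G) : NC 3 G := by
  have hM := Cfsg.Agent.Cit.Eleven.isM11 h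
  have : Finite G := Cfsg.Agent.Cit.Eleven.finite h
  obtain ⟨P⟩ : Nonempty (Sylow 3 G) := inferInstance
  exact nc_of_exp P (fun x hx => Cfsg.Agent.SporadicA.M11Facts2.pow_three_eq_one hM P hx) (by rw [hM.2]; norm_num)

section

open Cfsg.Agent.SporadicA.GolayBase Cfsg.Agent.SporadicA.GolayPerm
open Cfsg.Agent.SporadicStructure.M24El Cfsg.Agent.H865.ListGroup Mathieu

theorem chkA3 : Nat.beq (pcomp A (pcomp A A)) idP = true := by decide +kernel

theorem okAA : ok (pcomp A A) = true := by decide +kernel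

theorem el_A_pow : (el A : M24) ^ 3 = 1 := by
  have h1 := chkA3
  rw [Nat.beq_eq] at h1
  have h2 : el (pcomp A (pcomp A A)) = (1 : M24) := by rw [h1, el_idP]
  rw [el_pcomp okA okAA, el_pcomp okA okA] at h2
  rw [pow_succ, pow_two, mul_assoc]
  exact h2

theorem el_pow : ∀ P ∈ L, (el P : M24) ^ 3 = 1 := by
  intro P hP
  by_cases h1 : (el P : M24) = 1
  · rw [h1, one_pow]
  · obtain ⟨c, -, hc⟩ := conj_L hP h1
    have h2 : (el c : M24) * el P ^ 3 * (el c)⁻¹ = 1 := by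
      rw [← conj_pow, hc, el_A_pow]
    have h3 : (el P : M24) ^ 3 = (el c)⁻¹ * (el c * el P ^ 3 * (el c)⁻¹) * el c := by group
    rw [h3, h2]
    group

theorem nc_of (H : Subgroup (Equiv.Perm GolayPt)) (h22 : Cfsg.Spor.M22 ≤ H) : NC 3 H := by
  have hPH : (listGroup L chkL : Subgroup M24).map M24.subtype ≤ H := by
    rintro _ ⟨_, ⟨P, hP, rfl⟩, rfl⟩
    exact h22 (el_fix ((chkGroup_spec chkL).1 P hP).1 (L_fix P hP))
  have hcP : Nat.card ((listGroup L chkL : Subgroup M24).map M24.subtype) = 9 := by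
    rw [Nat.card_congr (Subgroup.equivMapOfInjective _ _ M24.subtype_injective).toEquiv.symm,
      card_listGroup chkL L_nodup]
    rfl
  have hcP' : Nat.card (((listGroup L chkL : Subgroup M24).map M24.subtype).subgroupOf H) = 9 := by
    rw [Nat.card_congr (Subgroup.subgroupOfEquivOfLe hPH).toEquiv, hcP]
  refine nc_of_exp_sub (((listGroup L chkL : Subgroup M24).map M24.subtype).subgroupOf H) ?_
    (by rw [hcP']; norm_num)
  rintro ⟨x, hxH⟩ hx
  rw [Subgroup.mem_subgroupOf] at hx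
  obtain ⟨_, ⟨P, hP, rfl⟩, hPx⟩ := hx
  have hPx' : (el P : Equiv.Perm GolayPt) = x := hPx
  refine Subtype.ext ?_
  show x ^ 3 = 1
  rw [← hPx']
  exact congrArg Subtype.val (el_pow P hP)

theorem m22_3 {G : Type*} [Group G] (h : Cfsg.Spor.IsoM22 G) : NC 3 G :=
  (nc_of _ le_rfl).congr h.some.symm

theorem m23_3 {G : Type*} [Group G] (h : Cfsg.Spor.IsoM23 G) : NC 3 G :=
  (nc_of _ inf_le_left).congr h.some.symm

end

/-! ### HS -/

theorem a6_3 : NC 3 (alternatingGroup (Fin 6)) := by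
  have hb : (Equiv.swap (3 : Fin 6) 4 * Equiv.swap (4 : Fin 6) 5 : Equiv.Perm (Fin 6)) ∈ alternatingGroup (Fin 6) := by
    rw [Equiv.Perm.mem_alternatingGroup]; decide
  have h1 : (Equiv.swap (3 : Fin 6) 4 * Equiv.swap (4 : Fin 6) 5 : Equiv.Perm (Fin 6)) ^ 3 = 1 := by decide
  have h2 : AltSix.a * (Equiv.swap (3 : Fin 6) 4 * Equiv.swap (4 : Fin 6) 5) = (Equiv.swap (3 : Fin 6) 4 * Equiv.swap (4 : Fin 6) 5) * AltSix.a := by decide
  refine nc_of_pair (a := ⟨AltSix.a, AltSix.a_mem⟩) (b := ⟨_, hb⟩) (by rw [Subgroup.orderOf_mk, AltSix.a_order])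
    (Subtype.ext h1) (Subtype.ext h2) ?_
  rintro ⟨i, hi⟩
  have h1 : AltSix.a ^ i = Equiv.swap (3 : Fin 6) 4 * Equiv.swap (4 : Fin 6) 5 := congrArg Subtype.val hi
  have h2 : (AltSix.a ^ i) 3 = 3 := by
    have h3 : AltSix.a 3 = 3 := by decide
    exact Equiv.Perm.zpow_apply_eq_self_of_apply_eq_self h3 i
  rw [h1] at h2
  exact absurd h2 (by decide)

theorem hs_3 {G : Type*} [Group G] [Finite G] (h : Cfsg.Spor.IsoHS G) : NC 3 G := by
  obtain ⟨D⟩ := Cfsg.Agent.KFacts.HS.exists_mod h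
  exact nc_of_injective a6_3 _ (Cfsg.Agent.KFacts.HS.DFour.rho_inj D)

/-! ### O'N -/

section

open Cfsg.Spor Cfsg.Spor.ON Cfsg.Agent.R04.ONThree Cfsg.Agent.KFacts.ON Cfsg.Agent.SporadicB.ON45Word
  Cfsg.Agent.R04.ThreeAbs

theorem nc_of_data {G : Type*} [Group G] [Finite G] {a b e f p q : G} (D : Data a b e f p q) (hab : a * b ≠ 1) :
    NC 3 G := by
  have ho : orderOf (a * b) = 3 := orderOf_eq_prime D.ab3 hab
  refine nc_of_pair ho (b := p * (a * b) * p⁻¹) (by rw [conj_pow, D.ab3, mul_one, mul_inv_cancel]) D.c12 ?_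
  rintro ⟨k, hk⟩
  have hk' : p * (a * b) * p⁻¹ = (a * b) ^ k := hk.symm
  have h3 : p * (p * (a * b) * p⁻¹) * p⁻¹ = (a * b) ^ (k * k) := by
    rw [hk', ← conj_zpow, hk', ← zpow_mul]
  rw [D.px2, ← zpow_natCast, zpow_eq_zpow_iff_modEq, ho] at h3
  have h4 : k * k % 3 = 2 := by
    have := h3.symm
    simpa [Int.ModEq] using this
  have h5 : k % 3 = 0 ∨ k % 3 = 1 ∨ k % 3 = 2 := by omega
  rcases h5 with h5 | h5 | h5 <;> rw [Int.mul_emod, h5] at h4 <;> norm_num at h4

theorem on_3 {G : Type*} [Group G] (h : Cfsg.Spor.IsoON G) : NC 3 G := by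
  have hc : Nat.card ON = 460815505920 := Cent.hON.2
  have hfin : Finite ON := Nat.finite_of_card_ne_zero (by rw [hc]; norm_num)
  exact (nc_of_data (data ON.hs) ab_ne).congr h.some.symm

end

/-! ### J2 -/

section

open Cfsg.Agent.J2Type

theorem j2_5 {G : Type*} [Group G] [Finite G] (h : Cfsg.Spor.IsoJ2 G) : NC 5 G := by
  obtain ⟨z, u, Q, v, ρ, D⟩ := KFacts.J2.Facts.exists_dat_of h
  have hF := D.F
  obtain ⟨f, U, V, H0, F⟩ := CentU.main hF
  have hG := Order.card_of_fus hF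
  have h60 := ThreeA.card_H0 hF F
  obtain ⟨w0, hw0, hwz⟩ := ThreeD.exists_w0 hF
  obtain ⟨w, hw⟩ := exists_prime_orderOf_dvd_card' (G := H0) 5 (by rw [h60]; norm_num)
  have hw5 : orderOf (w : G) = 5 := by rw [orderOf_coe]; exact hw
  have hC := Cent5.card_centralizer_five hF F h60 hG w.2 hw5
  have h4 := FiveFus.not_four_dvd hF hw0 hwz
  refine nc_of_classes hw0 hw5 fun g hg => h4 ?_
  rw [Cent5.card_centralizer_of_isConj (isConj_iff.2 ⟨g, rfl⟩ : IsConj w0 (g * w0 * g⁻¹))]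
  have hle : centralizer ({(w : G)} : Set G) ≤ centralizer ({g * w0 * g⁻¹} : Set G) := by
    intro c hc
    rw [mem_centralizer_singleton_iff] at hc ⊢
    obtain ⟨i, hi⟩ := hg
    have hi' : (w : G) ^ i = g * w0 * g⁻¹ := hi
    rw [← hi']
    exact ((show Commute c w from hc).zpow_right i).eq
  exact (show (4 : ℕ) ∣ 300 by norm_num).trans (hC ▸ Subgroup.card_dvd_of_le hle)

end

/-! ### He, Suz -/

section

open Cfsg.Spor Cfsg.Spor.He Cfsg.Agent.SporadicB.HePerm Cfsg.Agent.HeldHe.Model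
open Cfsg.Agent.KFacts.He.Words Cfsg.Agent.KFacts.He.Lv
open Cfsg.Agent.H800.Sp.He

theorem he_5 {G : Type*} [Group G] (h : Cfsg.Spor.IsoHe G) : NC 5 G := by
  have hc : Nat.card Cfsg.Spor.He = 4030387200 := Cfsg.Agent.KFacts.He.Cent.card_He
  have hfin : Finite Cfsg.Spor.He := Nat.finite_of_card_ne_zero (by rw [hc]; norm_num)
  have hW : (wd W)⁻¹ = wd W.reverse := by
    have h := geq chk2
    rw [wd_append, wd_nil] at h
    exact inv_eq_of_mul_eq_one_right h
  refine NC.congr (nc_of_rot_three (a := wd X) (n := wd W) (orderOf_eq_prime a_pow a_ne) hirr ?_ ?_) h.some.symm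
  · have h := geq chk3
    simp only [wd_append] at h
    rw [hW]
    simp only [mul_assoc]
    exact h
  · have h := geq chk4
    simp only [wd_append] at h
    simp only [mul_assoc]
    exact h

end

section

open Cfsg.Spor Cfsg.Agent.SporadicRecognition.SuzPhi Cfsg.Agent.SporadicRecognition.SuzOrder
open Cfsg.Agent.SporRec.SuzCl
open Cfsg.Agent.H800.Sp.Suz

theorem suz_5 {G : Type*} [Group G] (h : Cfsg.Spor.IsoSuz G) : NC 5 G := by
  have hc : Nat.card Cfsg.Spor.Suz = 448345497600 := card_Suz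
  have hfin : Finite Cfsg.Spor.Suz := Nat.finite_of_card_ne_zero (by rw [hc]; norm_num)
  have hW : (el W)⁻¹ = el W.reverse := by
    have h := geq chk2
    rw [el_append, el_nil] at h
    exact inv_eq_of_mul_eq_one_right h
  refine NC.congr (nc_of_rot_three (a := el X) (n := el W) (orderOf_eq_prime a_pow a_ne) hirr ?_ ?_) h.some.symm
  · have h := geq chk3
    simp only [el_append] at h
    rw [hW]
    simp only [mul_assoc]
    exact h
  · have h := geq chk4
    simp only [el_append] at h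
    simp only [mul_assoc]
    exact h

end

/-! ### Fischer groups -/

theorem fi22_5 {G : Type*} [Group G] [Finite G] (h : Cfsg.Spor.IsoFi22 G) : NC 5 G := by
  obtain ⟨e⟩ := h
  have C := Cfsg.Agent.LThreeFi22.Inst.ctx e
  obtain ⟨u, hu⟩ := exists_prime_orderOf_dvd_card' 5 (G := G) (by rw [C.card]; norm_num)
  exact nc_of_refl (by norm_num) hu (FiTT.refl C (by rw [← hu, pow_orderOf_eq_one]) (by
    rintro rfl
    rw [orderOf_one] at hu
    omega))

theorem fi23_5 {G : Type*} [Group G] (h : Cfsg.Spor.IsoFi23 G) : NC 5 G := by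
  have hfin : Finite Cfsg.Spor.Fi23 := Nat.finite_of_card_ne_zero (by rw [Cfsg.Agent.LThreeFi23.card_G]; norm_num)
  obtain ⟨u, hu⟩ := exists_prime_orderOf_dvd_card' 5 (G := Cfsg.Spor.Fi23) (by
    rw [Cfsg.Agent.LThreeFi23.card_G]; norm_num)
  exact (nc_of_refl (by norm_num) hu (FiTTh.refl hu)).congr h.some.symm

theorem fi24_5 {G : Type*} [Group G] (h : Cfsg.Spor.IsoFi24' G) : NC 5 G := by
  have hfin : Finite Cfsg.Spor.Fi24 := Cfsg.Agent.LThreeFi24.FiveConj.finite
  obtain ⟨u, hu⟩ := exists_prime_orderOf_dvd_card' 5 (G := Cfsg.Spor.Fi24') (by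
    rw [Cfsg.Agent.R08.FiTwentyFour.card_commutator]; norm_num)
  exact (nc_of_refl (by norm_num) hu (FiTF.refl hu)).congr h.some.symm

/-! ### Tits -/

section

open Cfsg.Agent.Omega.TwoF.Tits Cfsg.Agent.Omega.TwoF.Scalar Cfsg.Agent.Omega.TwoF.Orb
  Cfsg.Agent.ChevalleyStructure.Tits.Main

theorem pow_five_aux {X : Type*} [Group X] {a s x : X} (ha : a ^ 5 = 1) (hs : s * a * s⁻¹ = x) : x ^ 5 = 1 := by
  rw [← hs, conj_pow, ha, mul_one, mul_inv_cancel]

theorem pow_aux {X : Type*} [Group X] (P : Subgroup X) {a : P} (ha : orderOf a = 5) : (a : X) ^ 5 = 1 ∧ (a : X) ≠ 1 := by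
  have h1 : a ^ 5 = 1 := by
    have h := pow_orderOf_eq_one a
    rwa [ha] at h
  refine ⟨congrArg Subtype.val h1, fun h2 => ?_⟩
  have h3 : a = 1 := Subtype.ext h2
  rw [h3, orderOf_one] at ha
  omega

theorem tits_C : NC 5 C := by
  have h5 : 5 ∣ Nat.card ↥(Cfsg.Agent.CpAutTits.Fus.P) := by
    rw [Cfsg.Agent.CpAutTits.Fus.card_P]; norm_num
  obtain ⟨a, ha⟩ := exists_prime_orderOf_dvd_card' (G := ↥(Cfsg.Agent.CpAutTits.Fus.P)) 5 h5
  obtain ⟨ha5, ha1⟩ := pow_aux _ ha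
  refine nc_of_exp_sub (Cfsg.Agent.CpAutTits.Fus.P) ?_ (by rw [Cfsg.Agent.CpAutTits.Fus.card_P]; norm_num)
  intro x hx
  by_cases h1 : x = 1
  · rw [h1]; exact one_pow 5
  · obtain ⟨s, -, hs⟩ := Cfsg.Agent.CpAutTits.Fus.fus a.2 ha1 hx h1
    exact pow_five_aux ha5 hs

theorem tits_C_congr {X : Type} [Group X] (e : C ≃* X) : NC 5 X := tits_C.congr e

end

theorem tits_TT_aux (K : Subgroup (Matrix.GeneralLinearGroup Cfsg.Agent.ChevalleyStructure.Tits.Mat.I52 (ZMod 2)))
    (hK : K = Cfsg.Agent.ChevalleyStructure.Tits.Order.H0)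
    (e : Nonempty (↥(_root_.commutator K) ≃* ↥Cfsg.Agent.TitsK.TT)) : NC 5 ↥Cfsg.Agent.TitsK.TT := by
  subst hK
  obtain ⟨e⟩ := e
  exact tits_C_congr e

theorem tits_TT : NC 5 ↥Cfsg.Agent.TitsK.TT :=
  tits_TT_aux (Cfsg.Lie.twistedF4 (ZMod 2) 1) Cfsg.Agent.ChevalleyStructure.Tits.Main.T0_eq_H0
    Cfsg.Agent.TitsK.exists_equiv

theorem tits_5 {X : Type u} [Group X] [Finite X] (h : Cfsg.Lie.IsoTits X) : NC 5 X := by
  obtain ⟨e⟩ := Cfsg.Agent.CpAutTits.Row.exists_equiv h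
  have : Finite ↥Cfsg.Agent.TitsK.TT := Finite.of_equiv _ e.toEquiv
  exact tits_TT.congr e.symm

/-! ### 7 -/

theorem co1_7 {G : Type*} [Group G] (h : Cfsg.Spor.IsoCo1 G) : NC 7 G := by
  have hfin : Finite Cfsg.Spor.Co1 := BpSevenCo.Conj.finite_co1
  refine NC.congr (nc_of_pair (a := BpSevenCo.Conj.y) (b := BpSevenCo.Conj.x)
    (orderOf_eq_prime BpSevenCo.Conj.y_pow BpSevenCo.Conj.y_ne) BpSevenCo.Conj.x_pow BpSevenCo.Conj.comm_xy.symm ?_)
    h.some.symm
  intro hx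
  obtain ⟨k, hk⟩ := (isOfFinOrder_of_finite BpSevenCo.Conj.y).mem_powers_iff_mem_zpowers.2 hx
  have hk' : BpSevenCo.Conj.y ^ k = BpSevenCo.Conj.x := hk
  refine BpSevenCo.Conj.not_nf BpSevenCo.Conj.fr_x ?_
  rw [← hk']
  exact BpSevenCo.Conj.nf_y.pow k

section

open Cfsg.Agent.Th.Gen248 Cfsg.Agent.Th.Hom248 Cfsg.Agent.ThType.SevenBase
  Cfsg.Agent.ThType.SevenGY Cfsg.Agent.ThType.SevenG2 Cfsg.Agent.ThType.SevenG6 Cfsg.Agent.ThType.SevenAbstract
  Cfsg.Agent.ThType.Seven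

theorem th_7' : NC 7 Cfsg.Spor.Th := by
  have h : Cfsg.IsTh Cfsg.Spor.Th := Cfsg.Agent.Th.Main1700.isTh
  have : Finite Cfsg.Spor.Th := Nat.finite_of_card_ne_zero (by rw [h.2]; norm_num)
  have rs : W w15 = 1 := Th.rel (by simp [ws])
  have rsa : W w16 = 1 := Th.rel (by simp [ws])
  have hcomm : ∀ p q : Cfsg.Spor.Th, p⁻¹ * q⁻¹ * p * q = 1 → p * q = q * p := by
    intro p q hpq
    have h1 : q * p * (p⁻¹ * q⁻¹ * p * q) = p * q := by group
    rw [← h1, hpq, mul_one]
  have hsa : W (.g .s) * W (.g .a) = W (.g .a) * W (.g .s) := by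
    apply hcomm
    rw [← rsa]
    simp only [w16, W_mul, W_inv]
  have hs : W (.g .s) ^ 7 = 1 := by rw [← W_pow]; exact rs
  have hs1 : W (.g .s) ≠ 1 := by rw [← W_one]; exact W_ne (evG_ne ck_s)
  refine nc_of_pair (a := W (.g .s)) (b := W wy) (orderOf_eq_prime hs hs1)
    (by rw [← W_pow, ← W_one]; exact W_eq h y7) (by rw [← W_mul, ← W_mul]; exact W_eq h sy) ?_
  rintro ⟨k, hk⟩
  have hk' : W (.g .s) ^ k = W wy := hk
  have hay : W (.g .a) * W wy ≠ W wy * W (.g .a) := by rw [← W_mul, ← W_mul]; exact W_ne ay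
  apply hay
  rw [← hk']
  exact ((show Commute (W (.g .a)) (W (.g .s)) from hsa.symm).zpow_right k).eq

theorem th_7 {G : Type*} [Group G] (h : Cfsg.Spor.IsoTh G) : NC 7 G := by
  have h1 : Cfsg.IsTh Cfsg.Spor.Th := Cfsg.Agent.Th.Main1700.isTh
  have : Finite Cfsg.Spor.Th := Nat.finite_of_card_ne_zero (by rw [h1.2]; norm_num)
  exact th_7'.congr h.some.symm

end

theorem b_7 {G : Type*} [Group G] (h : Cfsg.Spor.IsoB G) : NC 7 G := by
  have hfin : Finite Cfsg.Spor.BabyMonster :=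
    Nat.finite_of_card_ne_zero (by rw [Cfsg.Agent.S1704.result.2]; norm_num)
  obtain ⟨T, hT⟩ := B.exists_th_B
  exact (nc_of_sub (th_7 hT)).congr h.some.symm

/-! ### `(M, 11)` -/

section

open Cfsg.Agent.BpSpor.MBigModel Cfsg.Agent.BpSpor.MBigEleven

instance instFactEleven : Fact (Nat.Prime 11) := ⟨prime11⟩

theorem m_11' : NC 11 MG := by
  have hfin : Finite MG := finite
  obtain ⟨x', hx', hpx'⟩ := Cfsg.Agent.MFive.KPair.exists_order chart prime11 (by decide)
    Cfsg.Agent.BpSpor.MBigCo.orderOf_s11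
  refine nc_of_involution (x := (x' : MG)) (z := zz) (by norm_num) (by rw [Subgroup.orderOf_coe, hx']) orderOf_zz
    (mem_centralizer_singleton_iff.1 x'.2).symm (by rw [card_M]; norm_num) (fun v hv => not_sq (Or.inl rfl) hv)
    (N := 4224) (card_inf hx') ?_
  intro m hm hd
  have h1 : 10 ≤ m := by
    by_contra hcon
    push Not at hcon
    have hm' : 1 ≤ m := Nat.one_le_iff_ne_zero.2 hm
    clear hm
    interval_cases m <;> revert hd <;> decide
  have h2 : 2 ^ 10 ≤ 2 ^ m := Nat.pow_le_pow_right (by norm_num) h1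
  omega

end

theorem m_11 {G : Type*} [Group G] (h : Cfsg.Spor.IsoM G) : NC 11 G := by
  have hfin : Finite Cfsg.Agent.BpSpor.MBigModel.MG := Cfsg.Agent.BpSpor.MBigModel.finite
  obtain ⟨e⟩ := Cfsg.Agent.MonsterP.Equiv.equiv
  exact m_11'.congr (e.symm.trans h.some.symm)

end Cfsg.Agent.H123.SpNC
end
end
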